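import Groth.Agent.L00.RankSemi
import Mathlib.Topology.Constructible
import Mathlib.RingTheory.Spectrum.Prime.Noetherian
import Mathlib.RingTheory.Flat.Basic
import Mathlib.RingTheory.Flat.Equalizer
import Mathlib.RingTheory.LocalRing.Module

/-!
The dimension of the span of the fibrewise action is a constructible function.
-/

set_option autoImplicit false
universe u

open TensorProduct

namespace Groth.L14.Hilb

variable {A : Type u} [CommRing A] [IsNoetherianRing A] {S : Type u} [AddCommGroup S] [Module A S]
  {Q : Type u} [AddCommGroup Q] [Module A Q] [Module.Finite A Q] [Module.Projective A Q]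

theorem exists_matrix (act : S →ₗ[A] Q →ₗ[A] Q) :
    ∃ (q m : ℕ) (M : Matrix (Fin q) (Fin m) A), ∀ p : PrimeSpectrum A,
      Module.finrank p.asIdeal.ResidueField
        (Submodule.span p.asIdeal.ResidueField
          (Set.range fun s : S => (act s).baseChange p.asIdeal.ResidueField)) =
      (M.map (algebraMap A p.asIdeal.ResidueField)).rank := by
  classical
  obtain ⟨N, r, i, -, -, hri⟩ := Module.Finite.exists_comp_eq_id_of_projective A Q
  let e : Matrix (Fin N) (Fin N) A →ₗ[A] (Fin (N * N) → A) :=
    { toFun := fun M l => M (finProdFinEquiv.symm l).1 (finProdFinEquiv.symm l).2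
      map_add' := fun _ _ => rfl
      map_smul' := fun _ _ => rfl }
  let L : S →ₗ[A] (Fin (N * N) → A) :=
    e.comp ((LinearMap.toMatrix' : ((Fin N → A) →ₗ[A] (Fin N → A)) ≃ₗ[A] _).toLinearMap.comp
      (((LinearMap.lcomp A (Fin N → A) r).comp (LinearMap.llcomp A Q Q (Fin N → A) i)).comp act))
  have hL : ∀ s, L s = e (LinearMap.toMatrix' (i ∘ₗ act s ∘ₗ r)) := fun s => rfl
  obtain ⟨m, g, hg⟩ := Submodule.fg_iff_exists_fin_generating_family.1 (IsNoetherian.noetherian (LinearMap.range L))
  refine ⟨N * N, m, Matrix.of fun l j => g j l, fun p => ?_⟩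
  let K := p.asIdeal.ResidueField
  let b : Module.Basis (Fin N) K (K ⊗[A] (Fin N → A)) := Algebra.TensorProduct.basis K (Pi.basisFun A (Fin N))
  let eK : Matrix (Fin N) (Fin N) K →ₗ[K] (Fin (N * N) → K) :=
    { toFun := fun M l => M (finProdFinEquiv.symm l).1 (finProdFinEquiv.symm l).2
      map_add' := fun _ _ => rfl
      map_smul' := fun _ _ => rfl }
  let Ψ : (K ⊗[A] Q →ₗ[K] K ⊗[A] Q) →ₗ[K] (Fin (N * N) → K) :=
    eK.comp ((LinearMap.toMatrix b b).toLinearMap.comp
      ((LinearMap.lcomp K (K ⊗[A] (Fin N → A)) (r.baseChange K)).comp (LinearMap.llcomp K _ _ _ (i.baseChange K))))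
  have hΨinj : Function.Injective Ψ := by
    have h1 : Function.Injective eK := fun M M' h => Matrix.ext fun a c => by
      have := congrFun h (finProdFinEquiv (a, c))
      change M (finProdFinEquiv.symm (finProdFinEquiv (a, c))).1 (finProdFinEquiv.symm (finProdFinEquiv (a, c))).2 =
        M' (finProdFinEquiv.symm (finProdFinEquiv (a, c))).1 (finProdFinEquiv.symm (finProdFinEquiv (a, c))).2 at this
      rwa [Equiv.symm_apply_apply] at this
    have hid : (r.baseChange K).comp (i.baseChange K) = LinearMap.id := by
      rw [← LinearMap.baseChange_comp, hri, LinearMap.baseChange_id]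
    refine h1.comp ((LinearMap.toMatrix b b).injective.comp fun X Y h => ?_)
    have h' := congrArg (fun Z => (r.baseChange K).comp (Z.comp (i.baseChange K))) h
    simp only [LinearMap.comp_apply, LinearMap.lcomp_apply', LinearMap.llcomp_apply'] at h'
    have e1 : ∀ Z : K ⊗[A] Q →ₗ[K] K ⊗[A] Q, (r.baseChange K).comp ((i.baseChange K).comp Z) = Z := fun Z => by
      rw [← LinearMap.comp_assoc, hid, LinearMap.id_comp]
    simpa [LinearMap.comp_assoc, hid, e1] using h'
  have hΨ : ∀ s, Ψ ((act s).baseChange K) = fun l => algebraMap A K (L s l) := by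
    intro s
    have h1 : (i.baseChange K).comp (((act s).baseChange K).comp (r.baseChange K)) =
        (i ∘ₗ act s ∘ₗ r).baseChange K := by rw [LinearMap.baseChange_comp, LinearMap.baseChange_comp]
    show eK (LinearMap.toMatrix b b ((i.baseChange K).comp ((act s).baseChange K) ∘ₗ r.baseChange K)) = _
    rw [LinearMap.comp_assoc, h1]
    simp only [b, LinearMap.toMatrix_baseChange, hL]
    rfl
  have himg : (Submodule.span K (Set.range fun s : S => (act s).baseChange K)).map Ψ =
      Submodule.span K (Set.range fun j : Fin m => fun l => algebraMap A K (g j l)) := by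
    rw [Submodule.map_span, ← Set.range_comp]
    refine le_antisymm (Submodule.span_le.2 ?_) (Submodule.span_le.2 ?_)
    · rintro _ ⟨s, rfl⟩
      rw [Function.comp_apply, hΨ]
      have hs : L s ∈ Submodule.span A (Set.range g) := hg ▸ LinearMap.mem_range_self L s
      obtain ⟨c, hc⟩ := (Submodule.mem_span_range_iff_exists_fun A).1 hs
      rw [show (fun l => algebraMap A K (L s l)) = ∑ j, algebraMap A K (c j) • fun l => algebraMap A K (g j l) from
        funext fun l => by rw [← hc]; simp [Finset.sum_apply, map_sum, Algebra.smul_def]]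
      exact Submodule.sum_mem _ fun j _ => Submodule.smul_mem _ _ (Submodule.subset_span ⟨j, rfl⟩)
    · rintro _ ⟨j, rfl⟩
      have : g j ∈ LinearMap.range L := hg ▸ Submodule.subset_span ⟨j, rfl⟩
      obtain ⟨s, hs⟩ := this
      exact Submodule.subset_span ⟨s, by rw [Function.comp_apply, hΨ, hs]⟩
  rw [(Submodule.equivMapOfInjective Ψ hΨinj _).finrank_eq, himg, Matrix.rank_eq_finrank_span_cols]
  congr

theorem isConstructible_span_rank (act : S →ₗ[A] Q →ₗ[A] Q) (n : ℕ) :
    Topology.IsConstructible {p : PrimeSpectrum A |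
      Module.finrank p.asIdeal.ResidueField
        (Submodule.span p.asIdeal.ResidueField
          (Set.range fun s : S => (act s).baseChange p.asIdeal.ResidueField)) = n} := by
  classical
  obtain ⟨q, m, M, hM⟩ := exists_matrix act
  have hopen : ∀ j, IsOpen {p : PrimeSpectrum A | j ≤ (M.map (algebraMap A p.asIdeal.ResidueField)).rank} := by
    intro j
    refine isOpen_iff_eventually.2 fun x hx => ?_
    filter_upwards [L00.RankSemi.le_rkAt_toLin'_eventually M x] with y hy
    rw [L00.RankSemi.rkAt_toLin', L00.RankSemi.rkAt_toLin'] at hy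
    exact le_trans hx hy
  have hc : ∀ j, Topology.IsConstructible {p : PrimeSpectrum A | j ≤ (M.map (algebraMap A p.asIdeal.ResidueField)).rank} :=
    fun j => IsCompact.isConstructible (TopologicalSpace.NoetherianSpace.isCompact _) (hopen j)
  have : {p : PrimeSpectrum A | Module.finrank p.asIdeal.ResidueField
      (Submodule.span p.asIdeal.ResidueField (Set.range fun s : S => (act s).baseChange p.asIdeal.ResidueField)) = n} =
      {p : PrimeSpectrum A | n ≤ (M.map (algebraMap A p.asIdeal.ResidueField)).rank} \
        {p : PrimeSpectrum A | n + 1 ≤ (M.map (algebraMap A p.asIdeal.ResidueField)).rank} := by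
    ext p
    simp only [Set.mem_setOf_eq, Set.mem_diff, hM]
    omega
  rw [this]
  exact (hc n).sdiff (hc (n + 1))

end Groth.L14.Hilb
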